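import Groth.Agent.TwistPairing.MulMap
import Groth.Agent.SerrePn.Basic
import Groth.Agent.CohFinite.ProjSpace

/-!
The perfect pairing `H⁰(O(k)) × Hⁿ(O(-n-1-k)) → A` on `ℙⁿ` over any ring.
-/

set_option autoImplicit false
set_option linter.style.haveILetI false
set_option linter.unusedSectionVars false
set_option backward.isDefEq.respectTransparency false
set_option backward.isDefEq.respectTransparency.types false

universe u

open CategoryTheory Limits AlgebraicGeometry TopologicalSpace Opposite Abelian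
open Groth.Agent.ProjCech Groth.Agent.SiteCoh

noncomputable section

namespace Groth.Agent.TwistPairing

variable {R : Type u} [CommRing R]

/-- Homology computed by a map on cochains. -/
lemma homology_formula (K : CochainComplex AddCommGrpCat.{u} ℕ) (p : ℕ) {M : Type u} [AddCommGroup M]
    (φ : K.X p →+ M) (hsurj : ∀ m, ∃ z, K.d p (p + 1) z = 0 ∧ φ z = m)
    (hker : ∀ z, K.d p (p + 1) z = 0 → (φ z = 0 ↔ ∃ y, K.d ((ComplexShape.up ℕ).prev p) p y = z)) :
    ∃ e : K.homology p ≃+ M, ∀ w, e (K.homologyπ p w) = φ (K.iCycles p w) := by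
  have hπ : Function.Surjective (K.homologyπ p) := (AddCommGrpCat.epi_iff_surjective _).mp inferInstance
  have hcyc : ∀ w, K.d p (p + 1) (K.iCycles p w) = 0 :=
    fun w => ConcreteCategory.congr_hom (K.iCycles_d p (p + 1)) w
  have hi : Function.Injective (K.iCycles p) := (AddCommGrpCat.mono_iff_injective _).mp inferInstance
  have hlift : ∀ z, K.d p (p + 1) z = 0 → ∃ w, K.iCycles p w = z := fun z hz => by
    have he := ShortComplex.exact_of_f_is_kernel
      (ShortComplex.mk (K.iCycles p) (K.d p (p + 1)) (K.iCycles_d p (p + 1)))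
      (K.cyclesIsKernel p (p + 1) (by simp))
    exact (ShortComplex.ab_exact_iff _).mp he z hz
  let ψ : K.cycles p →+ M := φ.comp (K.iCycles p).hom
  have hk : ∀ w, (K.homologyπ p).hom w = 0 ↔ ψ w = 0 := fun w => by
    refine Iff.trans ?_ (hker _ (hcyc w)).symm
    constructor
    · intro h
      obtain ⟨y, hy⟩ := (ShortComplex.ab_exact_iff _).mp (ShortComplex.exact_of_g_is_cokernel
        (ShortComplex.mk _ _ (K.toCycles_comp_homologyπ _ p)) (K.homologyIsCokernel _ p rfl)) w h
      refine ⟨y, ?_⟩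
      rw [← hy]
      exact (ConcreteCategory.congr_hom (K.toCycles_i ((ComplexShape.up ℕ).prev p) p) y).symm
    · rintro ⟨y, hy⟩
      have : K.toCycles ((ComplexShape.up ℕ).prev p) p y = w :=
        hi ((ConcreteCategory.congr_hom (K.toCycles_i _ p) y).trans hy)
      rw [← this]
      exact ConcreteCategory.congr_hom (K.toCycles_comp_homologyπ _ p) y
  have hψs : Function.Surjective ψ := fun m => by
    obtain ⟨z, hz, rfl⟩ := hsurj m
    obtain ⟨w, rfl⟩ := hlift z hz
    exact ⟨w, rfl⟩
  refine ⟨equivOfKerEq (K.homologyπ p).hom ψ hπ hψs hk, fun w => ?_⟩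
  simp only [equivOfKerEq, AddEquiv.trans_apply]
  rw [show (QuotientAddGroup.quotientKerEquivOfSurjective (K.homologyπ p).hom hπ).symm (K.homologyπ p w) =
    QuotientAddGroup.mk w from (AddEquiv.symm_apply_eq _).2 rfl]
  rfl

variable (n : ℕ) (R)

/-- The Čech complex of a twist. -/
abbrev K (d : ℤ) : CochainComplex AddCommGrpCat.{u} ℕ := cechCx (cov n R) (P0 n R d)

/-- The map of Čech complexes of a morphism of twists. -/
abbrev Kmap {a b : ℤ} (φ : Twist.twistProjSpace n R a ⟶ Twist.twistProjSpace n R b) : K R n a ⟶ K R n b :=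
  cechMap (Y := cov n R) (resMap' (𝟭 (CohB1.ProjSpace n R).Opens) (CohFinite.toAbMap φ))

theorem exists_E (p : ℕ) :
    ∃ E : ∀ d : ℤ, Coh.HH (CohB1.ProjSpace n R) (Twist.twistProjSpace n R d) p ≃+ (K R n d).homology p,
      ∀ (a b : ℤ) (φ : Twist.twistProjSpace n R a ⟶ Twist.twistProjSpace n R b)
        (x : Coh.HH (CohB1.ProjSpace n R) (Twist.twistProjSpace n R a) p),
        E b (CohFinite.hhMap R φ p x) = HomologicalComplex.homologyMap (Kmap R n φ) p (E a x) := by
  obtain ⟨e, he⟩ := cech_equiv_natural (Y := cov n R) (opensData (cov n R))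
    (fun I hI m => haveI := hI; cechExact_sheaf_injective (Opens.grothendieckTopology (CohB1.ProjSpace n R)) I (cov n R) m) p
  have hT : IsTerminal (iSup (cov n R)) := (iSup_cov (n := n) (R := R)).symm ▸ isTerminalTop
  refine ⟨fun d => (huTerminalEquiv (Opens.grothendieckTopology (CohB1.ProjSpace n R)) hT
    (Coh.toAb (Twist.twistProjSpace n R d)) p).trans (e _ (acy_twist (d := d))).symm, fun a b φ x => ?_⟩
  simp only [AddEquiv.trans_apply]
  rw [AddEquiv.symm_apply_eq, he _ _ acy_twist acy_twist, AddEquiv.apply_symm_apply]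
  exact huTerminalEquiv_natural (Opens.grothendieckTopology (CohB1.ProjSpace n R)) hT (CohFinite.toAbMap φ) p x

variable {R n}

/-- The top coefficient functional. -/
def top (k : ℕ) : ((Fin (n + 1) → J.{u} n) → L n R) →ₗ[R] ↥(MvPolynomial.homogeneousSubmodule (Fin (n + 1)) R k) :=
  (coeffPull negExp negExp_injective k).comp (LinearMap.proj (σ n : Fin (n + 1) → J.{u} n))

theorem exists_topEquiv (n k : ℕ) : ∃ e : (K R n (-((n : ℤ) + 1 + k))).homology n ≃+
      ↥(MvPolynomial.homogeneousSubmodule (Fin (n + 1)) R k),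
    ∀ w, e ((K R n (-((n : ℤ) + 1 + k))).homologyπ n w) =
      top k (cl n ((K R n (-((n : ℤ) + 1 + k))).iCycles n w)) := by
  have hsurj : ∀ P, ∃ f : (Fin (n + 1) → J.{u} n) → L n R,
      (∀ a, Allowed (-((n : ℤ) + 1 + k)) a (f a)) ∧ (∀ a, dd f a = 0) ∧ top (R := R) k f = P := fun P => by
    refine ⟨topCochain (coeffPush negExp P.1), allowed_topCochain fun e he => ?_, dd_topCochain _, ?_⟩
    · exact cf_push_eq_zero negExp negExp_injective P.2 fun m hm h => he ⟨h ▸ negAll_negExp m, by
        rw [← h, sum_negExp, hm]⟩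
    · simp only [top, LinearMap.comp_apply, LinearMap.proj_apply, topCochain_self]
      exact coeffPull_push negExp negExp_injective P
  have hneg : ∀ f : (Fin (n + 1) → J.{u} n) → L n R, (∀ a, Allowed (-((n : ℤ) + 1 + k)) a (f a)) →
      (∀ a, dd f a = 0) → top k f = 0 → ∀ a e, NegAll e → cf e (f a) = 0 := by
    intro f hf hd h a e he
    refine top_negAll f hf hd (fun e he => ?_) a he
    by_cases hs : ∑ i, e i = -((n : ℤ) + 1 + k)
    · obtain ⟨m, hm, rfl⟩ := exists_negExp he hs
      rw [← coeff_coeffPull negExp negExp_injective k (f (σ n)) m hm]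
      exact congrArg (fun P : ↥(MvPolynomial.homogeneousSubmodule (Fin (n + 1)) R k) => P.1.coeff m) h
    · exact hf _ e fun hg => hs hg.1
  refine homology_formula _ n ((top (R := R) k).toAddMonoidHom.comp (cl n)) (fun P => ?_) fun z hz => ?_
  · obtain ⟨f, hf, hfd, rfl⟩ := hsurj P
    obtain ⟨x, rfl⟩ := exists_cl_eq f hf
    exact ⟨x, (d_eq_zero_iff_dd x).2 hfd, rfl⟩
  · have hd := (d_eq_zero_iff_dd z).1 hz
    show top k (cl n z) = 0 ↔ _
    rcases n with _ | q
    · constructor
      · intro h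
        refine ⟨0, ?_⟩
        rw [map_zero]
        refine cl_injective ?_
        rw [map_zero]
        refine Eq.symm (funext fun a => cf_ext fun e => ?_)
        rw [Pi.zero_apply, map_zero]
        by_cases he : NegAll e
        · exact hneg _ (allowed_cl z) hd h a e he
        · refine allowed_cl z a e fun hg => he fun i => ?_
          have := hg.1
          rw [Fin.sum_univ_one] at this
          rw [Fin.fin_one_eq_zero i]
          push_cast at this
          omega
      · rintro ⟨y, rfl⟩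
        have h0 : (K R 0 (-(((0 : ℕ) : ℤ) + 1 + k))).d ((ComplexShape.up ℕ).prev 0) 0 y = 0 := by
          rw [HomologicalComplex.shape _ _ _ (by simp)]; rfl
        rw [h0, map_zero, map_zero]
    · rw [show (ComplexShape.up ℕ).prev (q + 1) = q by simp]
      constructor
      · intro h
        obtain ⟨g, hg, hgz⟩ := exists_primitive (cl (q + 1) z) (allowed_cl z) hd (hneg _ (allowed_cl z) hd h)
        obtain ⟨y, rfl⟩ := exists_cl_eq g hg
        exact ⟨y, cl_injective ((cl_d y).trans (funext hgz))⟩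
      · rintro ⟨y, rfl⟩
        rw [cl_d]
        refine Subtype.ext (MvPolynomial.ext _ _ fun m => ?_)
        by_cases hm : m.degree = k
        · simp only [top, LinearMap.comp_apply, LinearMap.proj_apply, coeff_coeffPull negExp _ k _ m hm, cf_dd]
          simp only [Submodule.coe_zero, MvPolynomial.coeff_zero, dd]
          exact Finset.sum_eq_zero fun j _ => by
            rw [cf_eq_zero_of_negAll (Nat.lt_succ_self q) (allowed_cl y _) (negAll_negExp m), smul_zero]
        · rw [Submodule.coe_zero, MvPolynomial.coeff_zero]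
          exact ((MvPolynomial.mem_homogeneousSubmodule _ _).1 (top k (dd (cl q y))).2).coeff_eq_zero hm

/-- Coefficients identify forms with functions on exponents. -/
def coeffEquiv (n k : ℕ) : ↥(MvPolynomial.homogeneousSubmodule (Fin (n + 1)) R k) ≃ₗ[R]
    ((Finset.univ : Finset (Fin (n + 1))).finsuppAntidiag k → R) where
  toFun P m := P.1.coeff m.1
  map_add' _ _ := rfl
  map_smul' _ _ := rfl
  invFun c := ⟨∑ m, MvPolynomial.monomial m.1 (c m), Submodule.sum_mem _ fun m _ =>
    MvPolynomial.isHomogeneous_monomial _ (by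
      rw [Finsupp.degree_eq_sum]; exact (Finset.mem_finsuppAntidiag.1 m.2).1)⟩
  left_inv P := by
    classical
    refine Subtype.ext (MvPolynomial.ext _ _ fun m => ?_)
    simp only [MvPolynomial.coeff_sum, MvPolynomial.coeff_monomial]
    by_cases hm : m.degree = k
    · rw [Finset.sum_eq_single (⟨m, Finset.mem_finsuppAntidiag.2 ⟨by rw [← hm, Finsupp.degree_eq_sum], by simp⟩⟩ :
        (Finset.univ : Finset (Fin (n + 1))).finsuppAntidiag k) (fun b _ hb => if_neg fun h => hb (Subtype.ext h))
        (fun h => absurd (Finset.mem_univ _) h), if_pos rfl]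
    · rw [((MvPolynomial.mem_homogeneousSubmodule _ _).1 P.2).coeff_eq_zero hm]
      refine Finset.sum_eq_zero fun b _ => if_neg fun h => hm ?_
      rw [← h, Finsupp.degree_eq_sum]; exact (Finset.mem_finsuppAntidiag.1 b.2).1
  right_inv c := by
    classical
    funext m
    simp only [MvPolynomial.coeff_sum, MvPolynomial.coeff_monomial]
    rw [Finset.sum_eq_single m (fun b _ hb => if_neg fun h => hb (Subtype.ext h))
      (fun h => absurd (Finset.mem_univ _) h), if_pos rfl]

set_option maxHeartbeats 2000000 in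
set_option backward.isDefEq.respectTransparency.types true in
lemma nonempty_twist_twist (n : ℕ) (a b c : ℤ) (h : a + b = c) :
    Nonempty (CohB1.tensorMod (Twist.twistProjSpace n R a) (Twist.twistProjSpace n R b) ≅ Twist.twistProjSpace n R c) := by
  obtain ⟨i⟩ := GrT.nonempty_tensor_iso (a := a) (b := b) (c := c) (CohB1.polyGrading n R)
    (fun x => let ⟨i, hi⟩ := CohFinite.cov_X n R x
      ⟨MvPolynomial.X i.down, MvPolynomial.isHomogeneous_X R _, hi⟩) h
  exact ⟨i⟩

variable (R) in
set_option maxHeartbeats 1000000 in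
/-- The pairing of forms and top cohomology is perfect. -/
theorem exists_trace_perfect (n : ℕ) :
    ∃ t : Coh.HH (CohB1.ProjSpace n R) (Twist.twistProjSpace n R (-((n : ℤ) + 1))) n ≃ₗ[R] R,
      ∀ (k : ℕ) (a : ℤ), a = -((k : ℤ) + n + 1) → ∀ ψ : Coh.HH (CohB1.ProjSpace n R) (Twist.twistProjSpace n R a) n →ₗ[R] R,
        ∃! φ : Twist.twistProjSpace n R a ⟶ Twist.twistProjSpace n R (-((n : ℤ) + 1)),
          ∀ x, ψ x = t (CohFinite.hhMap R φ n x) := by
  classical
  obtain ⟨E, hE⟩ := exists_E R n n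
  have hpoly : ∀ k : ℕ, ∃ c : Coh.HH (CohB1.ProjSpace n R) (Twist.twistProjSpace n R (-((n : ℤ) + 1 + k))) n ≃+
      ↥(MvPolynomial.homogeneousSubmodule (Fin (n + 1)) R k), ∀ w, c ((E _).symm ((K R n _).homologyπ n w)) =
        top k (cl n ((K R n _).iCycles n w)) := fun k => by
    obtain ⟨e, he⟩ := exists_topEquiv (R := R) n k
    exact ⟨(E _).trans e, fun w => by rw [AddEquiv.trans_apply, AddEquiv.apply_symm_apply, he]⟩
  choose c hc using hpoly
  -- classes of cocycles
  have hrep : ∀ (d : ℤ) x, ∃ w, (E d).symm ((K R n d).homologyπ n w) = x := fun d x => by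
    obtain ⟨w, hw⟩ := (AddCommGrpCat.epi_iff_surjective ((K R n d).homologyπ n)).mp inferInstance (E d x)
    exact ⟨w, by rw [hw, AddEquiv.symm_apply_apply]⟩
  have hmap : ∀ (a b : ℤ) (φ : Twist.twistProjSpace n R a ⟶ Twist.twistProjSpace n R b) w,
      ∃ w', CohFinite.hhMap R φ n ((E a).symm ((K R n a).homologyπ n w)) = (E b).symm ((K R n b).homologyπ n w') ∧
        (K R n b).iCycles n w' = (Kmap R n φ).f n ((K R n a).iCycles n w) := fun a b φ w =>
    ⟨HomologicalComplex.cyclesMap (Kmap R n φ) n w, by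
      rw [AddEquiv.eq_symm_apply, hE, AddEquiv.apply_symm_apply]
      exact ConcreteCategory.congr_hom (HomologicalComplex.homologyπ_naturality (Kmap R n φ) n) w,
      ConcreteCategory.congr_hom (HomologicalComplex.cyclesMap_i (Kmap R n φ) n) w⟩
  have hlin : ∀ (k : ℕ) (r : R) x, c k (r • x) = r • c k x := fun k r x => by
    obtain ⟨w, rfl⟩ := hrep _ x
    have h1 : r • (E _).symm ((K R n _).homologyπ n w) =
        CohFinite.hhMap R (r • 𝟙 (Twist.twistProjSpace n R (-((n : ℤ) + 1 + k)))) n
          ((E _).symm ((K R n _).homologyπ n w)) := by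
      rw [SerrePn.hhMap_smul, LinearMap.smul_apply, CohFinite.hhMap_id]
    obtain ⟨w', hw', hi⟩ := hmap _ _ (r • 𝟙 (Twist.twistProjSpace n R (-((n : ℤ) + 1 + k)))) w
    rw [h1, hw', hc, hc, hi, ← map_smul]
    refine congrArg (top k) ?_
    have e2 : CohFinite.toAbMap (r • 𝟙 (Twist.twistProjSpace n R (-((n : ℤ) + 1 + k)))) =
        Coh.smulAb _ (Coh.toGlobal (CohB1.ProjSpace n R ↘ Spec (CommRingCat.of R)) r) := by
      rw [KLin.smul_id]; exact SerrePn.toAbMap_smulMod R _ r
    show cl n ((cechMap (Y := cov n R) (resMap' _ (CohFinite.toAbMap _))).f n _) = _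
    rw [e2]
    exact cl_smul r _
  let C := fun k => AddEquiv.toLinearEquiv (c k) (hlin k)
  let S := fun k : ℕ => (Finset.univ : Finset (Fin (n + 1))).finsuppAntidiag k
  -- the trace
  have h00 : (-((n : ℤ) + 1)) = -((n : ℤ) + 1 + ((0 : ℕ) : ℤ)) := by simp
  haveI : Unique (S 0) := ⟨⟨⟨0, Finset.mem_finsuppAntidiag.2 ⟨by simp, by simp⟩⟩⟩, fun m => Subtype.ext (Finsupp.ext fun i => by
    have h := (Finset.mem_finsuppAntidiag.1 m.2).1
    have := Finset.single_le_sum (f := fun j => m.1 j) (fun j _ => Nat.zero_le _) (Finset.mem_univ i)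
    simp only [Finsupp.coe_zero, Pi.zero_apply]
    exact Nat.le_zero.1 (this.trans h.le))⟩
  let t₀ : Coh.HH (CohB1.ProjSpace n R) (Twist.twistProjSpace n R (-((n : ℤ) + 1 + ((0 : ℕ) : ℤ)))) n ≃ₗ[R] R :=
    (C 0).trans ((coeffEquiv (R := R) n 0).trans (LinearEquiv.funUnique (S 0) R R))
  suffices H : ∀ (b : ℤ) (hb : b = -((n : ℤ) + 1 + ((0 : ℕ) : ℤ))),
      ∃ t : Coh.HH (CohB1.ProjSpace n R) (Twist.twistProjSpace n R b) n ≃ₗ[R] R,
        ∀ (k : ℕ) (a : ℤ), a = -((k : ℤ) + n + 1) → ∀ ψ : Coh.HH (CohB1.ProjSpace n R) (Twist.twistProjSpace n R a) n →ₗ[R] R,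
          ∃! φ : Twist.twistProjSpace n R a ⟶ Twist.twistProjSpace n R b,
            ∀ x, ψ x = t (CohFinite.hhMap R φ n x) from H _ h00
  rintro b rfl
  refine ⟨t₀, fun k a ha => ?_⟩
  obtain rfl : a = -((n : ℤ) + 1 + k) := by omega
  let a := -((n : ℤ) + 1 + k)
  let b := -((n : ℤ) + 1 + ((0 : ℕ) : ℤ))
  let P : (Twist.twistProjSpace n R a ⟶ Twist.twistProjSpace n R b) →ₗ[R]
      Module.Dual R (Coh.HH (CohB1.ProjSpace n R) (Twist.twistProjSpace n R a) n) :=
    (LinearMap.compRight R (t₀ : Coh.HH (CohB1.ProjSpace n R) (Twist.twistProjSpace n R b) n →ₗ[R] R)).comp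
      (SerrePn.hhHom R _ _ n)
  suffices hP : Function.Bijective P by
    intro ψ
    obtain ⟨φ, hφ⟩ := hP.2 ψ
    exact ⟨φ, fun x => (LinearMap.congr_fun hφ x).symm, fun φ' h =>
      hP.1 (LinearMap.ext fun x => (h x).symm.trans (LinearMap.congr_fun hφ x).symm)⟩
  let D := (C k).trans (coeffEquiv (R := R) n k)
  have hcoord : ∀ m : S k, ∃ φ, ∀ x, P φ x = D x m := fun m => by
    have hmk : m.1.degree = k := by rw [Finsupp.degree_eq_sum]; exact (Finset.mem_finsuppAntidiag.1 m.2).1
    let φ := mulMap (a := a) (b := b) (MvPolynomial.isHomogeneous_monomial (1 : R) hmk)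
      (show a + k = b by simp only [a, b]; push_cast; ring)
    refine ⟨φ, fun x => ?_⟩
    obtain ⟨w, rfl⟩ := hrep a x
    obtain ⟨w', hw', hi⟩ := hmap a b φ w
    show (coeffEquiv (R := R) n 0) (c 0 (CohFinite.hhMap R φ n _)) default = (c k _).1.coeff m.1
    rw [hw', hc, hc, hi]
    show ((coeffPull negExp negExp_injective 0) (cl n _ (σ n))).1.coeff _ =
      ((coeffPull negExp negExp_injective k) (cl n _ (σ n))).1.coeff m.1
    rw [coeff_coeffPull negExp negExp_injective 0 _ _ (by
        rw [Finsupp.degree_eq_sum]; exact (Finset.mem_finsuppAntidiag.1 (default : S 0).2).1),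
      coeff_coeffPull negExp negExp_injective k _ _ hmk]
    refine (congrArg (cf _) (cl_mulMap _ _ _ _)).trans ?_
    rw [toL_monomial, mul_comm, cf_single_mul]
    refine congrArg (fun e => cf e _) (funext fun i => ?_)
    have h0 : (default : S 0).1 i = 0 := Nat.le_zero.1 ((Finset.single_le_sum (f := fun j => (default : S 0).1 j) (fun j _ => Nat.zero_le _) (Finset.mem_univ i)).trans (Finset.mem_finsuppAntidiag.1 (default : S 0).2).1.le)
    simp [negExp, ProjCech.φ, h0]
    ring
  choose φ hφ using hcoord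
  have hsurj : Function.Surjective P := fun ψ => ⟨∑ m, ψ (D.symm (Pi.single m 1)) • φ m, LinearMap.ext fun x => by
    rw [map_sum, LinearMap.sum_apply]
    simp only [map_smul, LinearMap.smul_apply, hφ, smul_eq_mul]
    conv_rhs => rw [← D.symm_apply_apply x, ← Finset.univ_sum_single (D x)]
    rw [map_sum, map_sum]
    refine Finset.sum_congr rfl fun m _ => ?_
    rw [mul_comm, show Pi.single m (D x m) = (D x m) • (Pi.single m (1 : R) : S k → R) by
      rw [← Pi.single_smul, smul_eq_mul, mul_one], map_smul, map_smul, smul_eq_mul]⟩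
  obtain ⟨θ⟩ : Nonempty (CohB1.tensorMod (Twist.twistProjSpace n R (-a)) (Twist.twistProjSpace n R a) ≅
      Coh.structureModule (CohB1.ProjSpace n R)) := by
    obtain ⟨i⟩ := nonempty_twist_twist (R := R) n (-a) a 0 (by ring)
    obtain ⟨j⟩ := GrT.nonempty_twist_zero_iso (𝒜 := CohB1.polyGrading n R)
    exact ⟨i ≪≫ j⟩
  obtain ⟨h₁⟩ := SerrePn.nonempty_homEquiv R (CohFinite.isInvertible_twist n R (-a)) θ (Twist.twistProjSpace n R b)
  obtain ⟨i⟩ := nonempty_twist_twist (R := R) n b (-a) (k : ℤ) (by simp only [a, b]; push_cast; ring)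
  obtain ⟨h₂⟩ := ProjCech.zero_equiv (R := R) n k
  let U := h₁.trans ((CohFinite.hhEquiv R i 0).trans (h₂.trans (coeffEquiv (R := R) n k)))
  let V := D.dualMap.symm.trans (Pi.basisFun R (S k)).toDualEquiv.symm
  have hs : Function.Surjective (V.toLinearMap.comp (P.comp U.symm.toLinearMap)) :=
    V.surjective.comp (hsurj.comp U.symm.surjective)
  have hi := OrzechProperty.injective_of_surjective_endomorphism _ hs
  refine ⟨fun u v h => U.injective (hi ?_), hsurj⟩
  show V (P (U.symm (U u))) = V (P (U.symm (U v)))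
  rw [U.symm_apply_apply, U.symm_apply_apply, h]

end Groth.Agent.TwistPairing
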