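import Groth.Agent.ProjCech.Main
import Groth.Agent.GrT.TildeMap
import Groth.Agent.CohFinite.Linear

/-!
Multiplication by a form between twists, on Laurent polynomials.
-/

set_option autoImplicit false
set_option linter.style.haveILetI false
set_option linter.unusedSectionVars false
set_option backward.isDefEq.respectTransparency false

universe u

open CategoryTheory Limits AlgebraicGeometry TopologicalSpace Opposite
open Groth.Agent.ProjCech Groth.Agent.SiteCoh

noncomputable section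

namespace Groth.Agent.TwistPairing

section General

variable {R A : Type u} [CommRing R] [CommRing A] [Algebra R A] (𝒜 : ℕ → Submodule R A) [GradedAlgebra 𝒜]
  {a b : ℤ} {k : ℕ} {f : A}

lemma shift_mul (hf : f ∈ 𝒜 k) (h : a + k = b) :
    GrT.Shift 𝒜 𝒜 (f • (LinearMap.id : A →ₗ[A] A)) a b := fun i j hij m hm =>
  Or.inr ⟨k + i, by push_cast; omega, by simpa using SetLike.mul_mem_graded hf hm⟩

/-- Multiplication by a form on any `Proj`. -/
def mulTilde (hf : f ∈ 𝒜 k) (h : a + k = b) : GrTilde.tilde 𝒜 𝒜 a ⟶ GrTilde.tilde 𝒜 𝒜 b :=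
  GrT.mapTilde 𝒜 (shift_mul 𝒜 hf h)

lemma pt_mulTilde (hf : f ∈ 𝒜 k) (h : a + k = b) {U : (Proj 𝒜).Opens} (s : Γ(GrTilde.tilde 𝒜 𝒜 a, U)) (y : U)
    {P g : A} (hg : g ∉ y.1.asHomogeneousIdeal) (e : GrT.pt 𝒜 𝒜 s y = GrT.fr 𝒜 y.1 P g hg) :
    GrT.pt 𝒜 𝒜 ((mulTilde 𝒜 hf h).app U s) y = GrT.fr 𝒜 y.1 (f * P) g hg := by
  rw [mulTilde, GrT.pt_mapTilde, e, GrT.mapLoc_fr]
  rfl

end General

variable {n : ℕ} {R : Type u} [CommRing R] {a b : ℤ} {k : ℕ} {f : MvPolynomial (Fin (n + 1)) R}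

/-- Multiplication by a form. -/
abbrev mulMap (hf : f ∈ CohB1.polyGrading n R k) (h : a + k = b) :
    Twist.twistProjSpace n R a ⟶ Twist.twistProjSpace n R b :=
  mulTilde (CohB1.polyGrading n R) hf h

lemma valHom_mulMap (hf : f ∈ CohB1.polyGrading n R k) (h : a + k = b) {p : ℕ} {t : Fin (p + 1) → J.{u} n}
    {V : (CohB1.ProjSpace n R).Opens} (hV : V = Proj.basicOpen (CohB1.polyGrading n R) (T R t))
    (s : Γ(O n R a, V)) :
    valHom (d := b) hV ((mulMap hf h).app V s) = toL f * valHom (d := a) hV s := by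
  obtain ⟨l, P, hP⟩ := exists_isFrac hV s
  have h' : IsFrac (d := b) t ((mulMap hf h).app V s) l (f * P) := by
    obtain ⟨⟨i, hi, hPi⟩, hs⟩ := hP
    refine ⟨⟨k + i, by push_cast at hi ⊢; omega, SetLike.mul_mem_graded hf hPi⟩, fun y hy => ?_⟩
    exact pt_mulTilde (CohB1.polyGrading n R) hf h s y hy (hs y hy)
  rw [valHom_apply, valHom_apply, val_eq hV h', val_eq hV hP, lof, lof, map_mul, mul_assoc]

lemma cl_mulMap (hf : f ∈ CohB1.polyGrading n R k) (h : a + k = b) {p : ℕ}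
    (z : (cechCx (cov n R) (P0 n R a)).X p) (t : Fin (p + 1) → J.{u} n) :
    cl (d := b) p ((cechMap (Y := cov n R) (resMap' (𝟭 (CohB1.ProjSpace n R).Opens)
      (CohFinite.toAbMap (mulMap hf h)))).f p z) t = toL f * cl (d := a) p z t := by
  change toLaurent t (cochainEquiv _ _ p _ t) = toL f * toLaurent t (cochainEquiv _ _ p z t)
  rw [cochainEquiv_map]
  exact valHom_mulMap hf h (tupleProd_cov t) _

end Groth.Agent.TwistPairing
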